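import Groth.Agent.ResProp.EF.K206.TMod
import Groth.Agent.ResProp.EF.K65.Basic
import Groth.Agent.ResProp.EF.K373.T2
import Groth.Prelude.Def_GLin2
import Groth.Prelude.Def_ComodTens
import Mathlib.LinearAlgebra.FreeModule.PID
import Mathlib.RingTheory.Polynomial.Basic

/-!
# The killing module as a comodule over the coordinate bialgebra of the matrix monoid
-/

set_option autoImplicit false

open MvPolynomial TensorProduct

namespace Groth.Agent.ResProp.EF.K206

open K65

universe u

section MapAct

variable {r N : ℕ} {R S : Type u} [CommRing R] [CommRing S] (φ : R →+* S)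

/-- `act` and change of rings. -/
theorem map_act (g : Matrix (Fin N) (Fin N) R) (f : P r N R) :
    (MvPolynomial.map φ (act g f) : P r N S) = act (g.map φ) (MvPolynomial.map φ f) := by
  have h : ((MvPolynomial.map φ : P r N R →+* P r N S)).comp (act g : P r N R →ₐ[R] P r N R).toRingHom =
      (act (g.map φ) : P r N S →ₐ[S] P r N S).toRingHom.comp (MvPolynomial.map φ) := by
    refine MvPolynomial.ringHom_ext (fun x => ?_) fun i => ?_
    · simp [act, ev]
    · simp [act, gen, Matrix.mul_apply]
  exact RingHom.congr_fun h f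

/-- `f(Y g)` is multihomogeneous if `f` is. -/
theorem mh_act {μ : Fin r → ℕ} {f : P r N R} (hf : MH μ f) (g : Matrix (Fin N) (Fin N) R) : MH μ (act g f) := by
  refine K373.MH_of_ev_smul fun S _ _ t Y => ?_
  rw [ev_act, ev_act, ← K373.ev_smul hf]
  congr 2
  ext i j
  simp [Matrix.mul_apply, Finset.mul_sum, mul_assoc]

theorem inv_act {a : ℕ} {f : P r N R} (hf : Inv a f) (g : Matrix (Fin N) (Fin N) R) : Inv a (act g f) := by
  intro S _ _ Y c i j hij haj
  rw [ev_act, ev_act, ← hf S (Y * g.map (algebraMap R S)) c i j hij haj]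
  congr 2
  ext k l
  rcases eq_or_ne k j with rfl | h
  · simp [Matrix.mul_apply, add_mul, Finset.sum_add_distrib, Finset.mul_sum, mul_assoc]
  · simp [Matrix.mul_apply, h]

theorem act_mem_TT {m q : ℕ} {f : P m (m + 1) R} (hf : f ∈ TT m q R) (g : Matrix (Fin (m + 1)) (Fin (m + 1)) R) :
    act g f ∈ TT m q R := by
  rw [mem_TT] at hf ⊢
  exact ⟨mh_act hf.1 g, inv_act hf.2 g⟩

end MapAct

section Theta

variable {R : Type u} [CommRing R] (m q : ℕ)

/-- `T ⊗ C → P(C)` -/
noncomputable def th (C : Type u) [CommRing C] [Algebra R C] : TT m q R ⊗[R] C →ₗ[R] P m (m + 1) C :=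
  ((TT m q C).subtype.restrictScalars R) ∘ₗ ((bc m q R C).restrictScalars R) ∘ₗ
    (TensorProduct.comm R (TT m q R) C).toLinearMap

variable {m q}

@[simp] theorem th_tmul {C : Type u} [CommRing C] [Algebra R C] (f : TT m q R) (c : C) :
    th m q C (f ⊗ₜ[R] c) = c • MvPolynomial.map (algebraMap R C) (f : P m (m + 1) R) := by
  rw [th, LinearMap.comp_apply, LinearMap.comp_apply, LinearEquiv.coe_coe, TensorProduct.comm_tmul]
  exact coe_bc_tmul c f

theorem th_injective (C : Type u) [CommRing C] [Algebra R C] [Module.Flat R C] :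
    Function.Injective (th (R := R) m q C) := by
  intro x y hxy
  have h1 : bc m q R C ((TensorProduct.comm R (TT m q R) C) x) = bc m q R C ((TensorProduct.comm R (TT m q R) C) y) :=
    Subtype.ext hxy
  exact (TensorProduct.comm R (TT m q R) C).injective (bc_bijective.1 h1)

theorem th_mem (C : Type u) [CommRing C] [Algebra R C] (x : TT m q R ⊗[R] C) : th m q C x ∈ TT m q C :=
  (bc m q R C ((TensorProduct.comm R (TT m q R) C) x)).2

theorem exists_th (C : Type u) [CommRing C] [Algebra R C] [Module.Flat R C] {f : P m (m + 1) C}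
    (hf : f ∈ TT m q C) : ∃ x : TT m q R ⊗[R] C, th m q C x = f := by
  obtain ⟨y, hy⟩ := (bc_bijective (m := m) (q := q) (R := R) (B := C)).2 ⟨f, hf⟩
  refine ⟨(TensorProduct.comm R (TT m q R) C).symm y, ?_⟩
  have := congrArg Subtype.val hy
  rw [th, LinearMap.comp_apply, LinearMap.comp_apply, LinearEquiv.coe_coe, LinearEquiv.apply_symm_apply]
  exact this

theorem th_lTensor {C C' : Type u} [CommRing C] [Algebra R C] [CommRing C'] [Algebra R C'] (φ : C →ₐ[R] C')
    (x : TT m q R ⊗[R] C) :
    th m q C' (φ.toLinearMap.lTensor _ x) = MvPolynomial.map (φ : C →+* C') (th m q C x) := by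
  induction x with
  | zero => simp
  | add x y hx hy => simp only [map_add, hx, hy]
  | tmul f c =>
    rw [LinearMap.lTensor_tmul, th_tmul, th_tmul, MvPolynomial.smul_eq_C_mul, MvPolynomial.smul_eq_C_mul, map_mul,
      map_C, MvPolynomial.map_map]
    congr 2
    have : (φ : C →+* C').comp (algebraMap R C) = algebraMap R C' := φ.comp_algebraMap
    rw [this]

end Theta

section Coaction

variable (m q : ℕ) (R : Type u) [CommRing R]

/-- The coordinate bialgebra of `(m+1) × (m+1)` matrices. -/
abbrev MatA (N : ℕ) (R : Type u) [CommRing R] : Type u := CoordGrp.Mat N R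

instance (N : ℕ) : Module.Free R (MatA N R) := inferInstanceAs (Module.Free R (MvPolynomial (Fin N × Fin N) R))

/-- `f ↦ f(Y x)`, `x` the generic matrix -/
noncomputable def coFun : TT m q R →ₗ[R] TT m q (MatA (m + 1) R) where
  toFun f := ⟨act (CoordGrp.Mat.genMat (m + 1) R) (MvPolynomial.map (algebraMap R (MatA (m + 1) R)) (f : P m (m + 1) R)),
    act_mem_TT (map_mem_TT f.2) _⟩
  map_add' f g := Subtype.ext (by simp)
  map_smul' a f := Subtype.ext (by
    simp only [SetLike.val_smul, RingHom.id_apply]
    rw [MvPolynomial.smul_eq_C_mul, map_mul, map_C, map_mul, ← MvPolynomial.algebraMap_eq, AlgHom.commutes,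
      MvPolynomial.algebraMap_eq, ← MvPolynomial.smul_eq_C_mul, algebraMap_smul]
    rfl)

/-- The coaction `T → T ⊗ O(Mat)`. -/
noncomputable def coT : TT m q R →ₗ[R] TT m q R ⊗[R] MatA (m + 1) R :=
  (TensorProduct.comm R (MatA (m + 1) R) (TT m q R)).toLinearMap ∘ₗ
    ((bcEquiv m q R (MatA (m + 1) R)).symm.toLinearMap.restrictScalars R) ∘ₗ coFun m q R

variable {m q R}

theorem th_coT (f : TT m q R) : th m q (MatA (m + 1) R) (coT m q R f) =
    act (CoordGrp.Mat.genMat (m + 1) R) (MvPolynomial.map (algebraMap R (MatA (m + 1) R)) (f : P m (m + 1) R)) := by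
  have h : bc m q R (MatA (m + 1) R) ((bcEquiv m q R (MatA (m + 1) R)).symm (coFun m q R f)) = coFun m q R f :=
    (bcEquiv m q R (MatA (m + 1) R)).apply_symm_apply _
  have h2 := congrArg Subtype.val h
  rw [coT, th, LinearMap.comp_apply, LinearMap.comp_apply, LinearMap.comp_apply, LinearMap.comp_apply,
    LinearEquiv.coe_coe, LinearEquiv.coe_coe, ← TensorProduct.comm_symm, LinearEquiv.symm_apply_apply]
  exact h2

theorem map_act_genMat {C : Type u} [CommRing C] [Algebra R C] {N r : ℕ} (φ : MatA N R →ₐ[R] C) (f : P r N R) :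
    MvPolynomial.map (φ : MatA N R →+* C) (act (CoordGrp.Mat.genMat N R)
      (MvPolynomial.map (algebraMap R (MatA N R)) f : P r N (MatA N R))) =
    act ((CoordGrp.Mat.genMat N R).map φ) (MvPolynomial.map (algebraMap R C) f : P r N C) := by
  rw [map_act, MvPolynomial.map_map]
  have : (φ : MatA N R →+* C).comp (algebraMap R (MatA N R)) = algebraMap R C := φ.comp_algebraMap
  rw [this]
  rfl

variable (m q R) in
/-- THE COMODULE `T` -/
@[reducible] noncomputable def comodT : HopfRep.Comod R (MatA (m + 1) R) (TT m q R) where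
  coact := coT m q R
  coassoc := by
    refine LinearMap.ext fun f => ?_
    apply th_injective (m := m) (q := q) (R := R) (MatA (m + 1) R ⊗[R] MatA (m + 1) R)
    -- the right hand side
    have hR : th m q (MatA (m + 1) R ⊗[R] MatA (m + 1) R)
        ((CoalgebraStruct.comul (R := R) (A := MatA (m + 1) R)).lTensor (TT m q R) (coT m q R f)) =
        act (CoordGrp.Mat.genMatL (m + 1) R * CoordGrp.Mat.genMatR (m + 1) R)
          (MvPolynomial.map (algebraMap R _) (f : P m (m + 1) R)) := by
      have h1 := th_lTensor (m := m) (q := q) (Bialgebra.comulAlgHom R (MatA (m + 1) R)) (coT m q R f)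
      rw [th_coT, map_act_genMat, CoordGrp.Mat.comulAlgHom_eq] at h1
      have h2 : (CoordGrp.Mat.genMat (m + 1) R).map (CoordGrp.Mat.aeval (m + 1) R
          (CoordGrp.Mat.genMatL (m + 1) R * CoordGrp.Mat.genMatR (m + 1) R)) =
          CoordGrp.Mat.genMatL (m + 1) R * CoordGrp.Mat.genMatR (m + 1) R :=
        CoordGrp.Mat.aeval_mapMatrix_genMat _
      rw [h2] at h1
      rw [← h1, ← CoordGrp.Mat.comulAlgHom_eq]
      rfl
    -- the left hand side
    have hL : ∀ x : TT m q R ⊗[R] MatA (m + 1) R, th m q (MatA (m + 1) R ⊗[R] MatA (m + 1) R)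
        ((TensorProduct.assoc R (TT m q R) (MatA (m + 1) R) (MatA (m + 1) R)) ((coT m q R).rTensor _ x)) =
        act (CoordGrp.Mat.genMatL (m + 1) R) (MvPolynomial.map
          (Algebra.TensorProduct.includeRight : MatA (m + 1) R →ₐ[R] MatA (m + 1) R ⊗[R] MatA (m + 1) R).toRingHom
          (th m q (MatA (m + 1) R) x)) := by
      intro x
      induction x with
      | zero => simp
      | add x y hx hy => simp only [map_add, hx, hy]
      | tmul g a =>
        have h3 : ∀ y : TT m q R ⊗[R] MatA (m + 1) R, th m q (MatA (m + 1) R ⊗[R] MatA (m + 1) R)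
            ((TensorProduct.assoc R (TT m q R) (MatA (m + 1) R) (MatA (m + 1) R)) (y ⊗ₜ[R] a)) =
            ((1 : MatA (m + 1) R) ⊗ₜ[R] a) • MvPolynomial.map
              (Algebra.TensorProduct.includeLeft : MatA (m + 1) R →ₐ[R] MatA (m + 1) R ⊗[R] MatA (m + 1) R).toRingHom
              (th m q (MatA (m + 1) R) y) := by
          intro y
          induction y with
          | zero => simp
          | add x y hx hy => simp only [map_add, add_tmul, smul_add, hx, hy]
          | tmul g' a' =>
            rw [TensorProduct.assoc_tmul, th_tmul, th_tmul, MvPolynomial.smul_eq_C_mul, MvPolynomial.smul_eq_C_mul,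
              MvPolynomial.smul_eq_C_mul, map_mul, map_C, MvPolynomial.map_map, ← mul_assoc, ← C_mul]
            congr 2
            simp [Algebra.TensorProduct.tmul_mul_tmul]
        rw [LinearMap.rTensor_tmul, h3, th_coT, th_tmul]
        have h4 := map_act_genMat (r := m) (Algebra.TensorProduct.includeLeft :
          MatA (m + 1) R →ₐ[R] MatA (m + 1) R ⊗[R] MatA (m + 1) R) (g : P m (m + 1) R)
        have h5 : MvPolynomial.map (Algebra.TensorProduct.includeLeft :
            MatA (m + 1) R →ₐ[R] MatA (m + 1) R ⊗[R] MatA (m + 1) R).toRingHom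
            (act (CoordGrp.Mat.genMat (m + 1) R) (MvPolynomial.map (algebraMap R (MatA (m + 1) R)) (g : P m (m + 1) R))) =
            act (CoordGrp.Mat.genMatL (m + 1) R) (MvPolynomial.map (algebraMap R _) (g : P m (m + 1) R)) := h4
        have h8 : (Algebra.TensorProduct.includeRight :
            MatA (m + 1) R →ₐ[R] MatA (m + 1) R ⊗[R] MatA (m + 1) R).toRingHom.comp (algebraMap R (MatA (m + 1) R)) =
            algebraMap R (MatA (m + 1) R ⊗[R] MatA (m + 1) R) :=
          (Algebra.TensorProduct.includeRight : MatA (m + 1) R →ₐ[R] MatA (m + 1) R ⊗[R] MatA (m + 1) R).comp_algebraMap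
        rw [h5, MvPolynomial.smul_eq_C_mul, MvPolynomial.smul_eq_C_mul, map_mul, map_C, MvPolynomial.map_map, map_mul,
          ← MvPolynomial.algebraMap_eq, AlgHom.commutes, h8]
        rfl
    change th m q _ ((TensorProduct.assoc R (TT m q R) (MatA (m + 1) R) (MatA (m + 1) R))
      ((coT m q R).rTensor _ (coT m q R f))) = th m q _
        ((CoalgebraStruct.comul (R := R) (A := MatA (m + 1) R)).lTensor (TT m q R) (coT m q R f))
    rw [hR, hL, th_coT]
    have h6 := map_act_genMat (r := m) (Algebra.TensorProduct.includeRight :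
          MatA (m + 1) R →ₐ[R] MatA (m + 1) R ⊗[R] MatA (m + 1) R) (f : P m (m + 1) R)
    have h7 : MvPolynomial.map (Algebra.TensorProduct.includeRight :
        MatA (m + 1) R →ₐ[R] MatA (m + 1) R ⊗[R] MatA (m + 1) R).toRingHom
        (act (CoordGrp.Mat.genMat (m + 1) R) (MvPolynomial.map (algebraMap R (MatA (m + 1) R)) (f : P m (m + 1) R))) =
        act (CoordGrp.Mat.genMatR (m + 1) R) (MvPolynomial.map (algebraMap R _) (f : P m (m + 1) R)) := h6
    rw [h7, act_act]
  counit_comp := by
    refine LinearMap.ext fun f => ?_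
    apply th_injective (m := m) (q := q) (R := R) R
    have h1 := th_lTensor (m := m) (q := q) (Bialgebra.counitAlgHom R (MatA (m + 1) R)) (coT m q R f)
    rw [th_coT, map_act_genMat] at h1
    have h2 : (CoordGrp.Mat.genMat (m + 1) R).map (Bialgebra.counitAlgHom R (MatA (m + 1) R)) = 1 := by
      ext i j
      simp only [Matrix.map_apply, CoordGrp.Mat.genMat, Matrix.one_apply]
      exact CoordGrp.Mat.counit_X i j
    rw [h2, act_one] at h1
    refine Eq.trans h1 ?_
    change _ = th m q R (f ⊗ₜ[R] (1 : R))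
    rw [th_tmul, one_smul]

end Coaction

end Groth.Agent.ResProp.EF.K206
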