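import Groth.Agent.ResProp.EF.K206.RL
import Groth.Agent.ResProp.EF.K701.LamGL

/-!
# OUT for `GL_(m+1)` over `ℤ_(p)`
-/

set_option autoImplicit false

universe u

open TensorProduct

namespace Groth.Agent.ResProp.EF.K206

open Grp K65

variable {k : Type u} [CommRing k]

theorem regular_of_isLb (p : ℕ) [h : IsLb p k] : IsSMulRegular k (p : k) := by
  have := h.dom
  have := h.char0
  exact (IsRegular.of_ne_zero (Nat.cast_ne_zero.2 h.prime.ne_zero)).left.isSMulRegular

/-- the input of OUT for `GL_(m+1)` -/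
theorem input (p m : ℕ) [h : IsLb p k] : K701.GL.Input p (m + 1) k := by
  have := h.dom
  have := h.pid
  have : Fact p.Prime := ⟨h.prime⟩
  intro K
  refine ⟨p ^ (K + 1) - 1, ?_, TT m (p ^ (K + 1)) k, inferInstance, inferInstance, comodT m (p ^ (K + 1)) k,
    rrL m (p ^ (K + 1)) k, inferInstance, inferInstance, nontrivial_TT,
    rrL_unit (regular_of_isLb p) (K + 1), rrL_isHomMod (regular_of_isLb p) (K + 1)⟩
  have h1 : K + 1 < p ^ (K + 1) := Nat.lt_pow_self h.prime.one_lt
  omega

/-- OUT for `GL_(m+1)` -/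
theorem out_GL (p m : ℕ) [IsLb p k] : K749.Out p (K653.GpGL (m + 1) k) :=
  K701.GL.out_GL_of (input p m)

end Groth.Agent.ResProp.EF.K206
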