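import Groth.Agent.ResProp.EF.K206.Coact
import Groth.Agent.ResProp.EF.K959.EQ
import Groth.Agent.ResProp.EF.K595.Sat
import Groth.Agent.ResProp.EF.K676.T3
import Groth.Agent.ResProp.EF.K701.OutMod
import Groth.Agent.ResProp.EF.K701.T4
import Mathlib.Algebra.CharP.Quotient
import Mathlib.Algebra.MvPolynomial.Basic

/-!
# The retraction `O(Mat) ⊗ T → T`, its two congruences modulo `p`
-/

set_option autoImplicit false

open MvPolynomial TensorProduct

namespace Groth.Agent.ResProp.EF.K206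

open K65

universe u

section Def

variable {m q : ℕ} {R : Type u} [CommRing R]

theorem rr_add_left (b b' : P (m + 1) (m + 1) R) (t : P m (m + 1) R) : rr q (b + b') t = rr q b t + rr q b' t := by
  rw [K959.rr_apply, K959.rr_apply, K959.rr_apply, ← map_add, K959.r0, K959.r0, K959.r0, add_mul, map_add, map_add]

theorem rr_smul_left (c : R) (b : P (m + 1) (m + 1) R) (t : P m (m + 1) R) : rr q (c • b) t = c • rr q b t := by
  rw [K959.rr_apply, K959.rr_apply, ← map_smul, K959.r0, K959.r0, smul_mul_assoc, map_smul, map_smul]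

theorem rr_mem (b : P (m + 1) (m + 1) R) (t : P m (m + 1) R) : rr q b t ∈ TT m q R :=
  mem_TT.2 (K959.rr_isT K373.t2 q _ _)

variable (m q R)

/-- the retraction `O(Mat) ⊗ T → T` -/
noncomputable def rrL : MatA (m + 1) R ⊗[R] TT m q R →ₗ[R] TT m q R :=
  TensorProduct.lift (LinearMap.mk₂ R
    (fun (b : MatA (m + 1) R) (t : TT m q R) =>
      (⟨rr q (b : P (m + 1) (m + 1) R) (t : P m (m + 1) R), rr_mem _ _⟩ : TT m q R))
    (fun b b' _ => Subtype.ext (rr_add_left b b' _))
    (fun c b _ => Subtype.ext (rr_smul_left c b _))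
    (fun b t t' => Subtype.ext (map_add (rr q (b : P (m + 1) (m + 1) R)) (t : P m (m + 1) R) t'))
    (fun c b t => Subtype.ext (map_smul (rr q (b : P (m + 1) (m + 1) R)) c (t : P m (m + 1) R))))

variable {m q R}

theorem coe_rrL_tmul (b : MatA (m + 1) R) (t : TT m q R) :
    (rrL m q R (b ⊗ₜ[R] t) : P m (m + 1) R) = rr q (b : P (m + 1) (m + 1) R) (t : P m (m + 1) R) := rfl

end Def

/-! ### Finiteness -/

section Fin

variable {m q : ℕ} {R : Type u} [CommRing R]

theorem totalDegree_le_of_MH {r N : ℕ} {μ : Fin r → ℕ} {f : P r N R} (hf : MH μ f) :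
    f.totalDegree ≤ ∑ i, μ i := by
  refine Finset.sup_le fun d hd => ?_
  have h := hf (mem_support_iff.1 hd)
  rw [← h, Finsupp.weight_apply, Finsupp.sum, Finsupp.sum]
  simp only [Finset.sum_apply, Pi.smul_apply]
  rw [Finset.sum_comm]
  refine Finset.sum_le_sum fun ij _ => ?_
  simp [wt, Pi.single_apply]

theorem TT_le : TT m q R ≤ MvPolynomial.restrictTotalDegree (Fin m × Fin (m + 1)) R (∑ i, mu m q i) := fun _ hf =>
  (mem_restrictTotalDegree _ _ _).2 (totalDegree_le_of_MH (mem_TT.1 hf).1)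

instance [IsNoetherianRing R] : Module.Finite R (TT m q R) := by
  have h : IsNoetherian R (MvPolynomial.restrictTotalDegree (Fin m × Fin (m + 1)) R (∑ i, mu m q i)) :=
    isNoetherian_of_isNoetherianRing_of_finite R _
  have : IsNoetherian R (TT m q R) := isNoetherian_of_le TT_le
  infer_instance

instance [IsDomain R] [IsPrincipalIdealRing R] : Module.Free R (TT m q R) := by
  infer_instance

theorem nontrivial_TT [Nontrivial R] : Nontrivial (TT m q R) := by
  obtain ⟨f, hf, h⟩ := K701.t4 R m q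
  refine ⟨⟨⟨f, mem_TT.2 hf⟩, 0, fun h0 => ?_⟩⟩
  have : f = 0 := congrArg Subtype.val h0
  rw [this, map_zero] at h
  exact zero_ne_one h

end Fin

/-! ### Congruences modulo `p` -/

section Cong

variable {m q : ℕ}

/-- equality modulo `p` may be tested over rings of characteristic `p` -/
theorem cong_key {S : Type u} [CommRing S] {p : ℕ} [hpr : Fact p.Prime] (reg : IsSMulRegular S (p : S))
    {f f' : P m (m + 1) S} (hf : f ∈ TT m q S) (hf' : f' ∈ TT m q S)
    (h : ∀ (S' : Type u) [CommRing S'] [CharP S' p] (φ : S →+* S'), MvPolynomial.map φ f = MvPolynomial.map φ f') :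
    ∃ g : TT m q S, f = f' + (p : S) • (g : P m (m + 1) S) := by
  by_cases hu : IsUnit (p : S)
  · obtain ⟨u, hu⟩ := hu
    refine ⟨(↑u⁻¹ : S) • (⟨f, hf⟩ - ⟨f', hf'⟩), ?_⟩
    rw [Submodule.coe_smul, smul_smul, ← hu, Units.mul_inv, one_smul]
    simp
  · have : CharP (S ⧸ Ideal.span {(p : S)}) p := CharP.quotient S p hu
    have h1 := h (S ⧸ Ideal.span {(p : S)}) (Ideal.Quotient.mk _)
    rw [← sub_eq_zero, ← map_sub] at h1
    have h2 := (MvPolynomial.C_dvd_iff_map_hom_eq_zero (Ideal.Quotient.mk (Ideal.span {(p : S)})) (p : S)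
      (fun r' => by rw [Ideal.Quotient.eq_zero_iff_mem, Ideal.mem_span_singleton]) (f - f')).2 h1
    obtain ⟨g, hg⟩ := h2
    rw [MvPolynomial.C_mul'] at hg
    have hgT : IsT q ((p : S) • g) := by
      rw [← hg]
      exact mem_TT.1 (Submodule.sub_mem _ hf hf')
    exact ⟨⟨g, mem_TT.2 (K595.isT_of_smul reg hgT)⟩, by rw [← hg]; abel⟩

variable {R : Type u} [CommRing R]

/-- THE UNIT modulo `p` -/
theorem rrL_unit {p : ℕ} [hpr : Fact p.Prime] (reg : IsSMulRegular R (p : R)) (s : ℕ) (t : TT m (p ^ s) R) :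
    ∃ y : TT m (p ^ s) R,
      rrL m (p ^ s) R ((CoordGrp.Mat.det (m + 1) R ^ (p ^ s - 1)) ⊗ₜ[R] t) = t + (p : R) • y := by
  obtain ⟨g, hg⟩ := cong_key (m := m) (q := p ^ s) reg
    (f := rr (p ^ s) ((gen (m + 1) (m + 1) R).det ^ (p ^ s - 1)) (t : P m (m + 1) R)) (f' := t)
    (rr_mem _ _) t.2 fun S' _ _ φ => by
      rw [K959.map_rr, map_pow, K959.map_det_gen]
      exact K959.rr_det_of_isT K595.T1 K676.T3_holds s (K959.isT_map φ (mem_TT.1 t.2))
  exact ⟨g, Subtype.ext hg⟩

/-- `b ↦ b`, `O(Mat) → P(A)` -/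
noncomputable def mA (m : ℕ) (R : Type u) [CommRing R] :
    MatA (m + 1) R →ₐ[R] P (m + 1) (m + 1) (MatA (m + 1) R) :=
  CoordGrp.Mat.aeval (m + 1) R (gen (m + 1) (m + 1) (MatA (m + 1) R))

theorem map_eq_aeval {A : Type u} [CommRing A] [Algebra R A] {r N : ℕ} (f : P r N R) :
    aeval (R := R) (fun ij : Fin r × Fin N => (X ij : P r N A)) f = MvPolynomial.map (algebraMap R A) f := by
  have h : ((aeval (R := R) (fun ij : Fin r × Fin N => (X ij : P r N A)) : P r N R →ₐ[R] P r N A) :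
      P r N R →+* P r N A) = MvPolynomial.map (algebraMap R A) := by
    refine MvPolynomial.ringHom_ext (fun a => ?_) fun ij => ?_
    · rw [MvPolynomial.map_C, RingHom.coe_coe, aeval_C, MvPolynomial.algebraMap_apply]
    · rw [MvPolynomial.map_X, RingHom.coe_coe, aeval_X]
  exact RingHom.congr_fun h f

theorem mA_apply (b : MatA (m + 1) R) : mA m R b =
    (MvPolynomial.map (algebraMap R (MatA (m + 1) R)) (b : P (m + 1) (m + 1) R) :
      P (m + 1) (m + 1) (MatA (m + 1) R)) :=
  map_eq_aeval (A := MatA (m + 1) R) (r := m + 1) (N := m + 1) b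

/-- `A ⊗ A → P(A)`, `a ⊗ c ↦ c a` -/
noncomputable def th2 (m : ℕ) (R : Type u) [CommRing R] :
    MatA (m + 1) R ⊗[R] MatA (m + 1) R →ₐ[R] P (m + 1) (m + 1) (MatA (m + 1) R) :=
  Algebra.TensorProduct.productMap (mA m R)
    ((Algebra.ofId (MatA (m + 1) R) (P (m + 1) (m + 1) (MatA (m + 1) R))).restrictScalars R)

theorem th2_tmul (a c : MatA (m + 1) R) : th2 m R (a ⊗ₜ[R] c) = c • mA m R a := by
  rw [th2, Algebra.TensorProduct.productMap_apply_tmul, mul_comm, MvPolynomial.smul_eq_C_mul]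
  rfl

theorem th2_comul (b : MatA (m + 1) R) : th2 m R (CoalgebraStruct.comul (R := R) b) =
    act (CoordGrp.Mat.genMat (m + 1) R) (mA m R b) := by
  have h : (th2 m R).comp (Bialgebra.comulAlgHom R (MatA (m + 1) R)) =
      ((act (CoordGrp.Mat.genMat (m + 1) R) :
        P (m + 1) (m + 1) (MatA (m + 1) R) →ₐ[MatA (m + 1) R] P (m + 1) (m + 1) (MatA (m + 1) R)).restrictScalars R).comp
      (mA m R) := by
    refine CoordGrp.Mat.algHom_ext fun i j => ?_
    rw [AlgHom.comp_apply, Bialgebra.comulAlgHom_apply, CoordGrp.Mat.comul_X, map_sum, AlgHom.comp_apply]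
    simp only [th2_tmul, mA, CoordGrp.Mat.aeval_X, AlgHom.restrictScalars_apply]
    change _ = act _ (X (i, j))
    rw [act, K959.ev_X, Matrix.mul_apply]
    refine Finset.sum_congr rfl fun l _ => ?_
    rw [MvPolynomial.smul_eq_C_mul, mul_comm]
    rfl
  exact AlgHom.congr_fun h b

/-- `θ` and the retraction -/
theorem th_rrL (z : MatA (m + 1) R ⊗[R] MatA (m + 1) R) (w : TT m q R ⊗[R] MatA (m + 1) R) :
    th m q (MatA (m + 1) R) ((rrL m q R).rTensor (MatA (m + 1) R)
      (K701.Out.mulMid R (MatA (m + 1) R) (MatA (m + 1) R) (TT m q R) (z ⊗ₜ[R] w))) =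
    rr q (th2 m R z) (th m q (MatA (m + 1) R) w) := by
  induction z with
  | zero => simp [rr]
  | add x y hx hy => simp only [map_add, add_tmul, hx, hy, rr_add_left]
  | tmul a c =>
    induction w with
    | zero => simp
    | add x y hx hy => simp only [map_add, tmul_add, hx, hy]
    | tmul t d =>
      rw [K701.Out.mulMid_tmul, LinearMap.rTensor_tmul, th_tmul, th_tmul, th2_tmul, coe_rrL_tmul]
      refine (congrArg ((c * d) • ·) (K959.map_rr (algebraMap R (MatA (m + 1) R)) q
        (a : P (m + 1) (m + 1) R) (t : P m (m + 1) R))).trans ?_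
      rw [rr_smul_left, map_smul, smul_smul, mA_apply]

theorem th_lTensor_mulRight (g : MatA (m + 1) R) (y : TT m q R ⊗[R] MatA (m + 1) R) :
    th m q (MatA (m + 1) R) ((LinearMap.mulRight R g).lTensor (TT m q R) y) = g • th m q (MatA (m + 1) R) y := by
  induction y with
  | zero => simp
  | add x y hx hy => simp only [map_add, smul_add, hx, hy]
  | tmul t d =>
    rw [LinearMap.lTensor_tmul, th_tmul, th_tmul, LinearMap.mulRight_apply, smul_smul, mul_comm]

theorem regular_MatA {N p : ℕ} (reg : IsSMulRegular R (p : R)) :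
    IsSMulRegular (MatA N R) ((p : ℕ) : MatA N R) := by
  have h : IsSMulRegular (MvPolynomial (Fin N × Fin N) R) ((p : ℕ) : MvPolynomial (Fin N × Fin N) R) := by
    intro a b hab
    ext d
    apply reg
    have h1 : ∀ c : MvPolynomial (Fin N × Fin N) R,
        coeff d (((p : ℕ) : MvPolynomial (Fin N × Fin N) R) • c) = (p : R) • coeff d c := by
      intro c
      rw [smul_eq_mul, ← map_natCast (C : R →+* MvPolynomial (Fin N × Fin N) R), coeff_C_mul, smul_eq_mul]
    have h2 := congrArg (coeff d) hab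
    simp only [h1] at h2
    exact h2
  exact h

/-- EQUIVARIANCE modulo `p` -/
theorem rrL_isHomMod {p : ℕ} [hpr : Fact p.Prime] (reg : IsSMulRegular R (p : R)) (s : ℕ) :
    K701.Out.IsHomMod (p : R)
      (K701.Out.tens (CoalgebraStruct.comul (R := R) (A := MatA (m + 1) R)) (coT m (p ^ s) R))
      (K701.Out.twist (coT m (p ^ s) R) (CoordGrp.Mat.det (m + 1) R ^ (p ^ s - 1))) (rrL m (p ^ s) R) := by
  intro z
  induction z with
  | zero => exact ⟨0, by simp⟩
  | add x y hx hy =>
    obtain ⟨u, hu⟩ := hx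
    obtain ⟨v, hv⟩ := hy
    exact ⟨u + v, by rw [map_add, map_add, hu, hv, map_add, map_add, smul_add]; abel⟩
  | tmul b t =>
    have hL : th m (p ^ s) (MatA (m + 1) R) (K701.Out.twist (coT m (p ^ s) R)
        (CoordGrp.Mat.det (m + 1) R ^ (p ^ s - 1)) (rrL m (p ^ s) R (b ⊗ₜ[R] t))) =
        (CoordGrp.Mat.det (m + 1) R ^ (p ^ s - 1)) • act (CoordGrp.Mat.genMat (m + 1) R)
          (rr (p ^ s) (mA m R b) (MvPolynomial.map (algebraMap R (MatA (m + 1) R)) (t : P m (m + 1) R))) := by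
      rw [K701.Out.twist, LinearMap.comp_apply, th_lTensor_mulRight, th_coT, coe_rrL_tmul, mA_apply]
      exact congrArg (fun x => (CoordGrp.Mat.det (m + 1) R ^ (p ^ s - 1)) • act (CoordGrp.Mat.genMat (m + 1) R) x)
        (K959.map_rr (algebraMap R (MatA (m + 1) R)) (p ^ s) (b : P (m + 1) (m + 1) R) (t : P m (m + 1) R))
    have hR : th m (p ^ s) (MatA (m + 1) R) ((rrL m (p ^ s) R).rTensor (MatA (m + 1) R)
        (K701.Out.tens (CoalgebraStruct.comul (R := R) (A := MatA (m + 1) R)) (coT m (p ^ s) R) (b ⊗ₜ[R] t))) =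
        rr (p ^ s) (act (CoordGrp.Mat.genMat (m + 1) R) (mA m R b)) (act (CoordGrp.Mat.genMat (m + 1) R)
          (MvPolynomial.map (algebraMap R (MatA (m + 1) R)) (t : P m (m + 1) R))) := by
      rw [K701.Out.tens_tmul, th_rrL, th2_comul, th_coT]
    obtain ⟨G, hG⟩ := cong_key (m := m) (q := p ^ s) (S := MatA (m + 1) R) (regular_MatA reg)
      (th_mem (MatA (m + 1) R) (K701.Out.twist (coT m (p ^ s) R)
        (CoordGrp.Mat.det (m + 1) R ^ (p ^ s - 1)) (rrL m (p ^ s) R (b ⊗ₜ[R] t))))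
      (th_mem (MatA (m + 1) R) ((rrL m (p ^ s) R).rTensor (MatA (m + 1) R)
        (K701.Out.tens (CoalgebraStruct.comul (R := R) (A := MatA (m + 1) R)) (coT m (p ^ s) R) (b ⊗ₜ[R] t))))
      (fun S' _ _ φ => by
        rw [hL, hR, K959.map_rr, K959.map_act, K959.map_act, K959.rr_act K595.T0 K595.T1 s,
          MvPolynomial.smul_eq_C_mul, map_mul, MvPolynomial.map_C, K959.map_act, K959.map_rr, map_pow]
        congr 3
        exact φ.map_det (CoordGrp.Mat.genMat (m + 1) R))
    obtain ⟨w, hw⟩ := exists_th (R := R) (MatA (m + 1) R) G.2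
    refine ⟨w, th_injective (MatA (m + 1) R) ?_⟩
    rw [hG, map_add, map_smul, hw, ← algebraMap_smul (MatA (m + 1) R) (p : R) (G : P m (m + 1) (MatA (m + 1) R)),
      map_natCast]

end Cong

end Groth.Agent.ResProp.EF.K206
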