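import Groth.Agent.ResProp.EF.K65.Defs
import Mathlib.RingTheory.Flat.Equalizer
import Mathlib.LinearAlgebra.TensorProduct.Pi

/-!
# The killing module `T` as the kernel of a linear map, flat base change
-/

set_option autoImplicit false

open MvPolynomial TensorProduct

namespace Groth.Agent.ResProp.EF.K206

open K65

universe u

section Ev

variable {r N : ℕ} {R : Type u} [CommRing R]

/-- `ev` and algebra maps of the target. -/
theorem ev_map_apply {S S' : Type u} [CommRing S] [Algebra R S] [CommRing S'] [Algebra R S'] (φ : S →ₐ[R] S')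
    (Y : Matrix (Fin r) (Fin N) S) (f : P r N R) : ev (Y.map φ) f = φ (ev Y f) := by
  have h : (ev (Y.map φ) : P r N R →ₐ[R] S') = φ.comp (ev Y) := by
    refine MvPolynomial.algHom_ext fun i => ?_
    simp [ev]
  exact AlgHom.congr_fun h f

/-- `ev` and change of the ring of coefficients. -/
theorem ev_map {B : Type u} [CommRing B] [Algebra R B] {S : Type u} [CommRing S] [Algebra R S] [Algebra B S]
    [IsScalarTower R B S] (Y : Matrix (Fin r) (Fin N) S) (f : P r N R) :
    ev Y (MvPolynomial.map (algebraMap R B) f : P r N B) = ev Y f := by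
  simp [ev, MvPolynomial.aeval_map_algebraMap]

theorem ev_gen (f : P r N R) : ev (gen r N R) f = f := by
  have h : (ev (gen r N R) : P r N R →ₐ[R] P r N R) = AlgHom.id R _ := by
    refine MvPolynomial.algHom_ext fun i => ?_
    simp [ev, gen]
  exact AlgHom.congr_fun h f

end Ev

section Dif

variable (m : ℕ) (R : Type u) [CommRing R]

/-- The ring of the generic shear. -/
abbrev Q : Type u := MvPolynomial (Option (Fin m × Fin (m + 1))) R

/-- The generic matrix over `Q`. -/
noncomputable def Yg : Matrix (Fin m) (Fin (m + 1)) (Q m R) := Matrix.of fun i j => X (some (i, j))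

variable {m}

/-- The generic shear. -/
noncomputable def Yu (i j : Fin m) : Matrix (Fin m) (Fin (m + 1)) (Q m R) :=
  (Yg m R).updateRow j (Yg m R j + (X none : Q m R) • Yg m R i)

/-- `f(.., y_j + c y_i, ..) - f(Y)`, `c` and `Y` generic. -/
noncomputable def dif (i j : Fin m) : P m (m + 1) R →ₗ[R] Q m R :=
  (ev (Yu R i j) : P m (m + 1) R →ₐ[R] Q m R).toLinearMap - (ev (Yg m R) : P m (m + 1) R →ₐ[R] Q m R).toLinearMap

variable {R}

theorem dif_apply (i j : Fin m) (f : P m (m + 1) R) :
    dif R i j f = ev (Yu R i j) f - ev (Yg m R) f := rfl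

theorem map_Yg {S : Type u} [CommRing S] [Algebra R S] (Y : Matrix (Fin m) (Fin (m + 1)) S) (c : S) :
    (Yg m R).map (aeval (fun o => o.elim c fun ij => Y ij.1 ij.2) : Q m R →ₐ[R] S) = Y := by
  ext i j
  simp [Yg]

theorem map_Yg_update {S : Type u} [CommRing S] [Algebra R S] (Y : Matrix (Fin m) (Fin (m + 1)) S) (c : S)
    (i j : Fin m) :
    (Yu R i j).map
      (aeval (fun o => o.elim c fun ij => Y ij.1 ij.2) : Q m R →ₐ[R] S) = Y.updateRow j (Y j + c • Y i) := by
  ext a b
  rcases eq_or_ne a j with rfl | h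
  · simp [Yg, Yu]
  · simp [Yg, Yu, h]

theorem inv_iff (f : P m (m + 1) R) : Inv 0 f ↔ ∀ i j : Fin m, i < j → dif R i j f = 0 := by
  constructor
  · intro h i j hij
    rw [dif_apply, Yu, h (Q m R) (Yg m R) (X none) i j hij (Nat.zero_le _), sub_self]
  · intro h S _ _ Y c i j hij _
    have h1 := congrArg (aeval (fun o => o.elim c fun ij => Y ij.1 ij.2) : Q m R →ₐ[R] S) (h i j hij)
    rw [dif_apply, map_sub, map_zero, ← ev_map_apply, ← ev_map_apply, map_Yg, map_Yg_update, sub_eq_zero] at h1
    exact h1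

/-- `dif` commutes with change of the ring of coefficients. -/
theorem dif_map {B : Type u} [CommRing B] [Algebra R B] (i j : Fin m) (f : P m (m + 1) R) :
    dif B i j (MvPolynomial.map (algebraMap R B) f) = MvPolynomial.map (algebraMap R B) (dif R i j f) := by
  let φ : Q m R →ₐ[R] Q m B := MvPolynomial.mapAlgHom (Algebra.ofId R B)
  have h1 : (Yg m B) = (Yg m R).map φ := by
    ext a b
    simp [Yg, φ]
  have h2 : Yu B i j = (Yu R i j).map φ := by
    ext a b
    rcases eq_or_ne a j with rfl | h
    · simp [Yg, Yu, φ]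
    · simp [Yg, Yu, φ, h]
  rw [dif_apply, ev_map, ev_map, h2, h1, ev_map_apply, ev_map_apply, ← map_sub, ← dif_apply]
  rfl

end Dif

section Pr

variable {r N : ℕ} {R : Type u} [CommRing R]

theorem pr_map {B : Type u} [CommRing B] [Algebra R B] (μ : Fin r → ℕ) (f : P r N R) :
    pr μ (MvPolynomial.map (algebraMap R B) f : P r N B) = MvPolynomial.map (algebraMap R B) (pr μ f) := by
  ext d
  rw [pr, coeff_weightedHomogeneousComponent, coeff_map, coeff_map, pr, coeff_weightedHomogeneousComponent]
  split_ifs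
  · rfl
  · simp

theorem mh_iff (μ : Fin r → ℕ) (f : P r N R) : MH μ f ↔ pr μ f = f := by
  constructor
  · intro h
    exact h.weightedHomogeneousComponent_same
  · intro h
    have h1 : IsWeightedHomogeneous (wt r N) (pr μ f) μ := weightedHomogeneousComponent_isWeightedHomogeneous μ f
    rw [h] at h1
    exact h1

end Pr

section TT

variable (m q : ℕ) (R : Type u) [CommRing R]

/-- The defining equations of `T`. -/
noncomputable def DD : P m (m + 1) R →ₗ[R] ((Fin m × Fin m) → Q m R) × P m (m + 1) R :=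
  LinearMap.prod (LinearMap.pi fun ij : Fin m × Fin m => if ij.1 < ij.2 then dif R ij.1 ij.2 else 0)
    (LinearMap.id - (pr (mu m q) : P m (m + 1) R →ₗ[R] P m (m + 1) R))

theorem DD_apply (f : P m (m + 1) R) : DD m q R f =
    (fun ij => (if ij.1 < ij.2 then dif R ij.1 ij.2 else 0) f, f - pr (mu m q) f) := rfl

/-- THE KILLING MODULE -/
noncomputable def TT : Submodule R (P m (m + 1) R) := LinearMap.ker (DD m q R)

variable {m q R}

theorem mem_TT {f : P m (m + 1) R} : f ∈ TT m q R ↔ IsT q f := by
  rw [TT, LinearMap.mem_ker, IsT, mh_iff, inv_iff, DD_apply, Prod.mk_eq_zero, and_comm]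
  refine and_congr ?_ ?_
  · rw [sub_eq_zero, eq_comm]
  · constructor
    · intro h i j hij
      have := congrFun h (i, j)
      simpa [hij] using this
    · intro h
      funext ij
      by_cases hij : ij.1 < ij.2
      · simpa [hij] using h _ _ hij
      · simp [hij]

variable {B : Type u} [CommRing B] [Algebra R B]

theorem map_mem_TT {f : P m (m + 1) R} (hf : f ∈ TT m q R) :
    (MvPolynomial.map (algebraMap R B) f : P m (m + 1) B) ∈ TT m q B := by
  rw [mem_TT, IsT, mh_iff, inv_iff] at hf ⊢
  refine ⟨by rw [pr_map, hf.1], fun i j hij => ?_⟩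
  rw [dif_map, hf.2 i j hij, map_zero]

variable (R B) in
/-- `B ⊗ P(R) = P(B)` -/
noncomputable abbrev ePB (σ : Type) : B ⊗[R] MvPolynomial σ R ≃ₐ[B] MvPolynomial σ B :=
  algebraTensorAlgEquiv R B

theorem dif_ePB (i j : Fin m) (x : B ⊗[R] P m (m + 1) R) :
    dif B i j (ePB R B _ x) = ePB R B _ ((dif R i j).lTensor B x) := by
  induction x with
  | zero => simp
  | add x y hx hy => simp only [map_add, hx, hy]
  | tmul b f =>
    rw [LinearMap.lTensor_tmul, algebraTensorAlgEquiv_tmul, algebraTensorAlgEquiv_tmul, map_smul, dif_map]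

theorem pr_ePB {r N : ℕ} (μ : Fin r → ℕ) (x : B ⊗[R] P r N R) :
    pr μ (ePB R B _ x) = ePB R B _ ((pr μ).lTensor B x) := by
  induction x with
  | zero => simp
  | add x y hx hy => simp only [map_add, hx, hy]
  | tmul b f =>
    rw [LinearMap.lTensor_tmul, algebraTensorAlgEquiv_tmul, algebraTensorAlgEquiv_tmul, map_smul, pr_map]

/-- An element of `B ⊗ P(R)` whose image is in `T(B)` is killed by the defining equations. -/
theorem mem_ker_lTensor_DD (x : B ⊗[R] P m (m + 1) R) (hx : ePB R B _ x ∈ TT m q B) :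
    (DD m q R).lTensor B x = 0 := by
  rw [mem_TT, IsT, mh_iff, inv_iff] at hx
  obtain ⟨h1, h2⟩ := hx
  have k1 : ∀ i j, i < j → (dif R i j).lTensor B x = 0 := fun i j hij => by
    apply (ePB R B _).injective
    rw [← dif_ePB, h2 i j hij, map_zero]
  have k2 : (pr (mu m q)).lTensor B x = x := by
    apply (ePB R B _).injective
    rw [← pr_ePB, h1]
  have e1 : (LinearMap.snd R ((Fin m × Fin m) → Q m R) (P m (m + 1) R)).lTensor B ((DD m q R).lTensor B x) = 0 := by
    rw [← LinearMap.comp_apply, ← LinearMap.lTensor_comp]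
    have h3 : LinearMap.snd R ((Fin m × Fin m) → Q m R) (P m (m + 1) R) ∘ₗ DD m q R =
      LinearMap.id - (pr (mu m q) : P m (m + 1) R →ₗ[R] P m (m + 1) R) := rfl
    rw [h3, LinearMap.lTensor_sub, LinearMap.lTensor_id, LinearMap.sub_apply, k2, LinearMap.id_apply, sub_self]
  have e2 : (LinearMap.fst R ((Fin m × Fin m) → Q m R) (P m (m + 1) R)).lTensor B ((DD m q R).lTensor B x) = 0 := by
    apply (TensorProduct.piRight R R B (fun _ : Fin m × Fin m => Q m R)).injective
    rw [map_zero]
    funext ij
    have h4 : ∀ y : B ⊗[R] ((Fin m × Fin m) → Q m R),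
        (TensorProduct.piRight R R B (fun _ : Fin m × Fin m => Q m R)) y ij =
          (LinearMap.proj ij : ((Fin m × Fin m) → Q m R) →ₗ[R] Q m R).lTensor B y := by
      intro y
      induction y with
      | zero => simp
      | add y z hy hz => simp only [map_add, Pi.add_apply, hy, hz]
      | tmul b f => simp
    rw [h4, ← LinearMap.comp_apply, ← LinearMap.lTensor_comp, ← LinearMap.comp_apply, ← LinearMap.lTensor_comp]
    have h5 : (LinearMap.proj ij : ((Fin m × Fin m) → Q m R) →ₗ[R] Q m R) ∘ₗ
        LinearMap.fst R ((Fin m × Fin m) → Q m R) (P m (m + 1) R) ∘ₗ DD m q R =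
          if ij.1 < ij.2 then dif R ij.1 ij.2 else 0 := rfl
    rw [LinearMap.comp_assoc, h5]
    split_ifs with h
    · exact k1 _ _ h
    · simp
  have h6 : ∀ y : B ⊗[R] (((Fin m × Fin m) → Q m R) × P m (m + 1) R),
      y = (LinearMap.inl R ((Fin m × Fin m) → Q m R) (P m (m + 1) R)).lTensor B
        ((LinearMap.fst R ((Fin m × Fin m) → Q m R) (P m (m + 1) R)).lTensor B y) +
        (LinearMap.inr R ((Fin m × Fin m) → Q m R) (P m (m + 1) R)).lTensor B
        ((LinearMap.snd R ((Fin m × Fin m) → Q m R) (P m (m + 1) R)).lTensor B y) := by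
    intro y
    induction y with
    | zero => simp
    | add y z hy hz =>
      conv_lhs => rw [hy, hz]
      simp only [map_add]
      abel
    | tmul b f =>
      rw [LinearMap.lTensor_tmul, LinearMap.lTensor_tmul, LinearMap.lTensor_tmul, LinearMap.lTensor_tmul,
        ← TensorProduct.tmul_add]
      simp
  rw [h6 ((DD m q R).lTensor B x), e1, e2, map_zero, map_zero, add_zero]

variable (m q R B) in
/-- `B ⊗ T(R) → T(B)` -/
noncomputable def bc : B ⊗[R] TT m q R →ₗ[B] TT m q B :=
  LinearMap.codRestrict _ ((ePB R B _).toLinearMap ∘ₗ (TT m q R).subtype.baseChange B) (by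
    intro x
    induction x with
    | zero => simp
    | add x y hx hy => rw [map_add]; exact add_mem hx hy
    | tmul b f =>
      rw [LinearMap.comp_apply, LinearMap.baseChange_tmul]
      change ePB R B _ (b ⊗ₜ[R] (f : P m (m + 1) R)) ∈ _
      rw [algebraTensorAlgEquiv_tmul]
      exact Submodule.smul_mem _ _ (map_mem_TT f.2))

theorem coe_bc_tmul (b : B) (f : TT m q R) :
    (bc m q R B (b ⊗ₜ[R] f) : P m (m + 1) B) = b • MvPolynomial.map (algebraMap R B) (f : P m (m + 1) R) := by
  change ePB R B _ (b ⊗ₜ[R] (f : P m (m + 1) R)) = _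
  rw [algebraTensorAlgEquiv_tmul]

theorem bc_bijective [Module.Flat R B] : Function.Bijective (bc m q R B) := by
  constructor
  · have h1 : Function.Injective ((TT m q R).subtype.lTensor B) :=
      Module.Flat.lTensor_preserves_injective_linearMap _ Subtype.val_injective
    intro x y hxy
    have h2 : ePB R B _ ((TT m q R).subtype.lTensor B x) = ePB R B _ ((TT m q R).subtype.lTensor B y) :=
      congrArg Subtype.val hxy
    exact h1 ((ePB R B _).injective h2)
  · intro y
    have h1 := mem_ker_lTensor_DD (R := R) ((ePB R B _).symm y.1) (by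
      rw [AlgEquiv.apply_symm_apply]
      exact y.2)
    have h2 := Module.Flat.lTensor_exact B (LinearMap.exact_subtype_ker_map (DD m q R))
    obtain ⟨x, hx⟩ := (h2 _).1 h1
    refine ⟨x, Subtype.ext ?_⟩
    have h3 : ePB R B _ ((TT m q R).subtype.lTensor B x) = y := by
      have h4 : (TT m q R).subtype.lTensor B x = (ePB R B _).symm y.1 := hx
      rw [h4, AlgEquiv.apply_symm_apply]
    exact h3

variable (m q R B) in
/-- `B ⊗ T(R) = T(B)` for flat `B`. -/
noncomputable def bcEquiv [Module.Flat R B] : B ⊗[R] TT m q R ≃ₗ[B] TT m q B :=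
  LinearEquiv.ofBijective (bc m q R B) bc_bijective

end TT

end Groth.Agent.ResProp.EF.K206
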